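import Cfsg.Prelude.Def_Sz
import Cfsg.Agent.Lib.CIT.SzModel
import Cfsg.Agent.Lib.Lie.Suz.Aut
import Cfsg.Agent.Lib.Lie.SylowOver.Core

/-!
# Suzuki groups from the orders of their maximal subgroups

The orders of the maximal subgroups of a finite group that is not a `p`-group determine its order.
In `Sz(q)` every maximal subgroup of odd index has index `q² + 1`, which is not a prime.
-/

set_option autoImplicit false
set_option linter.unusedSectionVars false

namespace CfsgLib.SzMaxOrders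

open Subgroup

universe u v

/-- The set of orders of maximal subgroups. -/
def maxOrders (G : Type*) [Group G] : Set ℕ :=
  {k | ∃ M : Subgroup G, IsCoatom M ∧ k = Nat.card ↥M}

theorem maxOrders_congr {G : Type u} {H : Type v} [Group G] [Group H] (e : G ≃* H) :
    maxOrders G = maxOrders H := by
  ext k
  constructor
  · rintro ⟨M, hM, rfl⟩
    exact ⟨e.mapSubgroup M, (e.mapSubgroup.isCoatom_iff M).2 hM,
      Nat.card_congr (e.subgroupMap M).toEquiv⟩
  · rintro ⟨M, hM, rfl⟩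
    exact ⟨e.symm.mapSubgroup M, (e.symm.mapSubgroup.isCoatom_iff M).2 hM,
      Nat.card_congr (e.symm.subgroupMap M).toEquiv⟩

theorem exists_coatom_ge {G : Type u} [Group G] [Finite G] {H : Subgroup G} (hH : H ≠ ⊤) :
    ∃ M : Subgroup G, IsCoatom M ∧ H ≤ M :=
  (eq_top_or_exists_le_coatom H).resolve_left hH

/-- A group that is not a `p`-group has a maximal subgroup containing any given `p`-part. -/
theorem exists_maxOrder_of_pow_dvd {G : Type u} [Group G] [Finite G] {p : ℕ} [Fact p.Prime]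
    (hnp : ¬ IsPGroup p G) {j : ℕ} (h : p ^ j ∣ Nat.card G) :
    ∃ k ∈ maxOrders G, p ^ j ∣ k := by
  obtain ⟨P, hP⟩ := Sylow.exists_subgroup_card_pow_prime p h
  have hPne : P ≠ ⊤ := by
    rintro rfl
    exact hnp (IsPGroup.of_card (by rw [← Subgroup.card_top (G := G)]; exact hP))
  obtain ⟨M, hM, hle⟩ := exists_coatom_ge hPne
  exact ⟨_, ⟨M, hM, rfl⟩, hP ▸ Subgroup.card_dvd_of_le hle⟩

theorem card_dvd_of_maxOrders {G : Type u} {H : Type v} [Group G] [Finite G] [Group H] [Finite H]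
    (h : maxOrders G = maxOrders H) (hnp : ∀ p : ℕ, p.Prime → ¬ IsPGroup p G) :
    Nat.card G ∣ Nat.card H := by
  rw [Nat.dvd_iff_prime_pow_dvd_dvd]
  intro p j hp hj
  haveI := Fact.mk hp
  obtain ⟨k, hk, hjk⟩ := exists_maxOrder_of_pow_dvd (hnp p hp) hj
  rw [h] at hk
  obtain ⟨M, -, rfl⟩ := hk
  exact hjk.trans M.card_subgroup_dvd_card

/-- A normal maximal subgroup has prime index. -/
theorem index_prime_of_normal_coatom {G : Type u} [Group G] [Finite G] {M : Subgroup G} [M.Normal]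
    (hM : IsCoatom M) : M.index.Prime := by
  have h1 : M.index ≠ 1 := fun h => hM.1 (Subgroup.index_eq_one.1 h)
  obtain ⟨p, hp, hdvd⟩ := Nat.exists_prime_and_dvd h1
  haveI := Fact.mk hp
  rw [Subgroup.index_eq_card] at hdvd ⊢
  obtain ⟨x, hx⟩ := exists_prime_orderOf_dvd_card' (G := G ⧸ M) p hdvd
  have hlt : M < (Subgroup.zpowers x).comap (QuotientGroup.mk' M) := by
    refine lt_of_le_of_ne (fun g hg => ?_) fun heq => ?_
    · rw [Subgroup.mem_comap]
      rw [show QuotientGroup.mk' M g = 1 from (QuotientGroup.eq_one_iff g).2 hg]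
      exact one_mem _
    · obtain ⟨g, hg⟩ := QuotientGroup.mk'_surjective M x
      have hgM : g ∈ (Subgroup.zpowers x).comap (QuotientGroup.mk' M) := by
        rw [Subgroup.mem_comap, hg]
        exact Subgroup.mem_zpowers x
      rw [← heq] at hgM
      rw [← hg, show QuotientGroup.mk' M g = 1 from (QuotientGroup.eq_one_iff g).2 hgM, orderOf_one] at hx
      exact hp.ne_one hx.symm
  have htop : Subgroup.zpowers x = ⊤ := by
    rw [← Subgroup.map_comap_eq_self_of_surjective (QuotientGroup.mk'_surjective M) (Subgroup.zpowers x),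
      hM.2 _ hlt, Subgroup.map_top_of_surjective _ (QuotientGroup.mk'_surjective M)]
  rwa [← Subgroup.card_top (G := G ⧸ M), ← htop, Nat.card_zpowers, hx]

/-- A maximal proper normal subgroup. -/
theorem exists_simple_quotient (G : Type u) [Group G] [Finite G] [Nontrivial G] :
    ∃ (K : Subgroup G) (_ : K.Normal), IsSimpleGroup (G ⧸ K) := by
  haveI : Finite (Subgroup G) := Finite.of_injective _ SetLike.coe_injective
  obtain ⟨K, ⟨hKn, hKt⟩, hmax⟩ := Set.Finite.exists_maximal (s := {K : Subgroup G | K.Normal ∧ K ≠ ⊤})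
    (Set.toFinite _) ⟨⊥, inferInstance, bot_ne_top⟩
  refine ⟨K, hKn, ?_⟩
  haveI := hKn
  haveI : Nontrivial (G ⧸ K) := QuotientGroup.nontrivial_iff.2 hKt
  refine IsSimpleGroup.mk fun H hH => ?_
  by_cases ht : H.comap (QuotientGroup.mk' K) = ⊤
  · right
    rw [← Subgroup.map_comap_eq_self_of_surjective (QuotientGroup.mk'_surjective K) H, ht,
      Subgroup.map_top_of_surjective _ (QuotientGroup.mk'_surjective K)]
  · left
    have hle : K ≤ H.comap (QuotientGroup.mk' K) := fun g hg => by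
      rw [Subgroup.mem_comap, show QuotientGroup.mk' K g = 1 from (QuotientGroup.eq_one_iff g).2 hg]
      exact one_mem _
    have heq : H.comap (QuotientGroup.mk' K) = K := le_antisymm (hmax ⟨inferInstance, ht⟩ hle) hle
    rw [← Subgroup.map_comap_eq_self_of_surjective (QuotientGroup.mk'_surjective K) H, heq,
      QuotientGroup.map_mk'_self]

section Suz

open Cfsg CfsgLib.Lie.Suz

variable {F : Type*} [Field F] [Fintype F] {m : ℕ}

theorem odd_cofactor (hm : 1 ≤ m) (hF : Fintype.card F = 2 ^ (2 * m + 1)) :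
    ¬ 2 ∣ (Fintype.card F ^ 2 + 1) * (Fintype.card F - 1) := by
  have h2 : 2 ∣ Fintype.card F := hF ▸ dvd_pow_self 2 (by omega)
  have hpos := Fintype.card_pos (α := F)
  intro h
  rcases Nat.prime_two.dvd_mul.1 h with h | h
  · have : 2 ∣ Fintype.card F ^ 2 := dvd_pow h2 two_ne_zero
    omega
  · omega

/-- The maximal subgroups of odd index are the point stabilisers. -/
theorem index_of_odd_coatom (hm : 1 ≤ m) (hF : Fintype.card F = 2 ^ (2 * m + 1))
    {M : Subgroup (Cfsg.Sz F m)} (hM : IsCoatom M) (hodd : Odd M.index) :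
    M.index = Fintype.card F ^ 2 + 1 := by
  haveI : Fact (Nat.Prime 2) := ⟨Nat.prime_two⟩
  haveI : IsSimpleGroup (Cfsg.Sz F m) := simple hm hF
  have hS := isSuzField hF
  have hpos : 0 < Nat.card (Cfsg.Sz F m) := Nat.card_pos
  -- the translations form a Sylow `2`-subgroup
  obtain ⟨S, hUS⟩ := (U_isPGroup hF (m := m)).exists_le_sylow
  have hSU : (S : Subgroup (Cfsg.Sz F m)) = U hF := by
    refine (Subgroup.eq_of_le_of_card_ge hUS ?_).symm
    obtain ⟨j, hj⟩ := IsPGroup.iff_card.1 S.isPGroup'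
    have hdvd : (2 : ℕ) ^ j ∣ Fintype.card F ^ 2 * ((Fintype.card F ^ 2 + 1) * (Fintype.card F - 1)) := by
      rw [← hj, ← mul_assoc, ← card_Sz hm hF]
      exact Subgroup.card_subgroup_dvd_card _
    have hc : Nat.Coprime ((2 : ℕ) ^ j) ((Fintype.card F ^ 2 + 1) * (Fintype.card F - 1)) :=
      Nat.Coprime.pow_left _ ((Nat.prime_two.coprime_iff_not_dvd).2 (odd_cofactor hm hF))
    rw [card_U, hj]
    exact Nat.le_of_dvd (pow_pos Fintype.card_pos _) (hc.dvd_of_dvd_mul_right hdvd)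
  obtain ⟨T, hTM⟩ : ∃ T : Sylow 2 (Cfsg.Sz F m), (T : Subgroup (Cfsg.Sz F m)) ≤ M := by
    obtain ⟨T'⟩ : Nonempty (Sylow 2 ↥M) := inferInstance
    obtain ⟨T, hT⟩ := (T'.isPGroup'.map M.subtype).exists_le_sylow
    refine ⟨T, ?_⟩
    have hcT' : Nat.card ↥((T' : Subgroup ↥M).map M.subtype) = Nat.card ↥(T' : Subgroup ↥M) :=
      Nat.card_congr ((T' : Subgroup ↥M).equivMapOfInjective _ M.subtype_injective).toEquiv.symm
    have heq : (T' : Subgroup ↥M).map M.subtype = (T : Subgroup (Cfsg.Sz F m)) := by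
      refine Subgroup.eq_of_le_of_card_ge hT ?_
      obtain ⟨j, hj⟩ := IsPGroup.iff_card.1 T.isPGroup'
      have hdvd : (2 : ℕ) ^ j ∣ Nat.card ↥M * M.index := by
        rw [← hj, M.card_mul_index]
        exact Subgroup.card_subgroup_dvd_card _
      have hc : Nat.Coprime ((2 : ℕ) ^ j) M.index :=
        Nat.Coprime.pow_left _ ((Nat.prime_two.coprime_iff_not_dvd).2 fun h =>
          (Nat.not_even_iff_odd.2 hodd) (even_iff_two_dvd.2 h))
      rw [hcT', hj]
      exact Nat.le_of_dvd Nat.card_pos (T'.pow_dvd_card_of_pow_dvd_card (hc.dvd_of_dvd_mul_right hdvd) |>.trans dvd_rfl)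
    rw [← heq]
    exact Subgroup.map_subtype_le _
  obtain ⟨c, hc⟩ := MulAction.exists_smul_eq (Cfsg.Sz F m) T S
  let e : Cfsg.Sz F m ≃* Cfsg.Sz F m := MulAut.conj c
  have hM' : IsCoatom (e.mapSubgroup M) := (e.mapSubgroup.isCoatom_iff M).2 hM
  have hidx : (e.mapSubgroup M).index = M.index := Subgroup.index_map_equiv M e
  have hUM : U hF ≤ e.mapSubgroup M := by
    intro u hu
    have hu' : u ∈ ((c • T : Sylow 2 (Cfsg.Sz F m)) : Subgroup (Cfsg.Sz F m)) := by rw [hc, hSU]; exact hu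
    obtain ⟨t, ht, rfl⟩ : ∃ t ∈ (T : Subgroup (Cfsg.Sz F m)), c * t * c⁻¹ = u := hu'
    exact ⟨t, hTM ht, rfl⟩
  generalize e.mapSubgroup M = N at hM' hidx hUM
  rw [← hidx]
  -- the stabiliser of the point at infinity
  let B : Subgroup (Cfsg.Sz F m) := MulAction.stabilizer (Cfsg.Sz F m) (suzukiPointInfinity F)
  have hBcard : Nat.card B = Fintype.card F ^ 2 * (Fintype.card F - 1) := card_stab_inf hm hF
  have hq : 2 ≤ Fintype.card F := Fintype.one_lt_card
  have hBidx : B.index = Fintype.card F ^ 2 + 1 := by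
    have h := B.card_mul_index
    rw [hBcard, card_Sz hm hF, mul_right_comm _ (Fintype.card F ^ 2 + 1)] at h
    exact Nat.eq_of_mul_eq_mul_left (Nat.mul_pos (pow_pos (by omega) _) (by omega)) h
  by_cases hfix : ∀ g ∈ N, g • suzukiPointInfinity F = suzukiPointInfinity F
  · have hNB : N ≤ B := fun g hg => MulAction.mem_stabilizer_iff.2 (hfix g hg)
    rcases eq_or_lt_of_le hNB with h | h
    · rw [h, hBidx]
    · exfalso
      have := hM'.2 B h
      rw [this, Subgroup.index_top] at hBidx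
      have : 0 < Fintype.card F ^ 2 := pow_pos (by omega) _
      omega
  exfalso
  push Not at hfix
  obtain ⟨g, hg, hgi⟩ := hfix
  have hT : ∀ a b x y, TS hF a b • pt m x y = pt m (x + a) (y + th m a * x + b) := fun a b x y => T_pt hS a b x y
  have hnorm : ∀ g : Cfsg.Sz F m, g • suzukiPointInfinity F = suzukiPointInfinity F →
      ∀ u ∈ U hF, g * u * g⁻¹ ∈ U hF := fun g hg u hu => by
    simpa using normalizes_of_mem_stab hm hF (g := g⁻¹) (inv_mem (show g ∈ MulAction.stabilizer _ _ from hg)) hu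
  have hreach : ∀ k : Cfsg.Sz F m, ∃ h ∈ N, h • suzukiPointInfinity F = k • suzukiPointInfinity F := by
    intro k
    obtain ⟨a, b, hab⟩ : ∃ a b, g • suzukiPointInfinity F = pt m a b :=
      ((ovoid_iff ((g : Matrix.SpecialLinearGroup (Fin 4) F) • suzukiPointInfinity F)).1
        (smul_mem_ovoid g.2 ovoid_inf)).resolve_left hgi
    rcases (ovoid_iff ((k : Matrix.SpecialLinearGroup (Fin 4) F) • suzukiPointInfinity F)).1
        (smul_mem_ovoid k.2 ovoid_inf) with h | ⟨x, y, h⟩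
    · exact ⟨1, one_mem _, by rw [one_smul]; exact h.symm⟩
    · refine ⟨TS hF (x - a) (y - b - th m (x - a) * a) * g, mul_mem (hUM (TS_mem_U hF _ _)) hg, ?_⟩
      rw [mul_smul, hab, hT, show k • suzukiPointInfinity F = pt m x y from h]
      congr 1 <;> ring
  have hcl : Subgroup.normalClosure (U hF : Set (Cfsg.Sz F m)) ≤ N := by
    rw [Subgroup.normalClosure, Subgroup.closure_le]
    intro z hz
    obtain ⟨u, hu, hc⟩ := Group.mem_conjugatesOfSet_iff.1 hz
    obtain ⟨k, rfl⟩ := isConj_iff.1 hc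
    obtain ⟨h, hh, e⟩ := hreach k
    have h1 := hnorm (h⁻¹ * k) (by rw [mul_smul, ← e, inv_smul_smul]) u hu
    rw [show k * u * k⁻¹ = h * (h⁻¹ * k * u * (h⁻¹ * k)⁻¹) * h⁻¹ by group]
    exact mul_mem (mul_mem hh (hUM h1)) (inv_mem hh)
  refine hM'.1 (CfsgLib.Lie.SylowOver.eq_top_of_normal Subgroup.normalClosure_normal (fun h => ?_) hcl)
  have hU1 : U hF (m := m) = ⊥ := le_bot_iff.1 (h ▸ Subgroup.le_normalClosure)
  have := card_U hF (m := m)
  rw [hU1, Subgroup.card_bot] at this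
  have : 4 ≤ Fintype.card F ^ 2 := by nlinarith
  omega

end Suz

section Twisted

variable {F : Type*} [Field F] [Fintype F] {m : ℕ}

theorem card_lieSz (hm : 1 ≤ m) (hF : Fintype.card F = 2 ^ (2 * m + 1)) :
    Nat.card ↥(Cfsg.Lie.Sz F (2 ^ (m + 1))) =
      Fintype.card F ^ 2 * (Fintype.card F ^ 2 + 1) * (Fintype.card F - 1) := by
  obtain ⟨e⟩ := CfsgLib.Lie.Suz.exists_twEquiv hm hF
  rw [← Nat.card_congr e.toEquiv, CfsgLib.Lie.Suz.card_Sz hm hF]

theorem index_of_odd_coatom' (hm : 1 ≤ m) (hF : Fintype.card F = 2 ^ (2 * m + 1))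
    {M : Subgroup ↥(Cfsg.Lie.Sz F (2 ^ (m + 1)))} (hM : IsCoatom M) (hodd : Odd M.index) :
    M.index = Fintype.card F ^ 2 + 1 := by
  obtain ⟨e⟩ := CfsgLib.Lie.Suz.exists_twEquiv hm hF
  have h : (e.symm.mapSubgroup M).index = M.index := Subgroup.index_map_equiv M e.symm
  rw [← h] at hodd ⊢
  exact index_of_odd_coatom hm hF ((e.symm.mapSubgroup.isCoatom_iff M).2 hM) hodd

theorem five_dvd (hF : Fintype.card F = 2 ^ (2 * m + 1)) : 5 ∣ Fintype.card F ^ 2 + 1 := by
  rw [hF, ← pow_mul, show (2 * m + 1) * 2 = 4 * m + 2 by ring, pow_add, pow_mul]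
  have h : (2 ^ 4) ^ m % 5 = 1 := by rw [Nat.pow_mod]; norm_num
  omega

theorem not_prime_index (hm : 1 ≤ m) (hF : Fintype.card F = 2 ^ (2 * m + 1)) :
    ¬ (Fintype.card F ^ 2 + 1).Prime := by
  intro hp
  have h5 := five_dvd hF
  have := (Nat.prime_dvd_prime_iff_eq (by norm_num) hp).1 h5
  have h8 : 8 ≤ Fintype.card F := by
    rw [hF]; exact le_trans (by norm_num) (Nat.pow_le_pow_right (by norm_num) (show 3 ≤ 2 * m + 1 by omega))
  nlinarith

/-- No maximal subgroup of a Suzuki group has prime index. -/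
theorem index_not_prime (hm : 1 ≤ m) (hF : Fintype.card F = 2 ^ (2 * m + 1))
    [IsSimpleGroup ↥(Cfsg.Lie.Sz F (2 ^ (m + 1)))]
    {M : Subgroup ↥(Cfsg.Lie.Sz F (2 ^ (m + 1)))} (hM : IsCoatom M) : ¬ M.index.Prime := by
  intro hp
  rcases hp.eq_two_or_odd' with h2 | hodd
  · haveI : M.Normal := Subgroup.normal_of_index_eq_two h2
    rcases IsSimpleGroup.eq_bot_or_eq_top_of_normal M ‹_› with h | h
    · rw [h, Subgroup.index_bot, card_lieSz hm hF] at h2
      have hq : 2 ≤ Fintype.card F := Fintype.one_lt_card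
      have : 4 * 1 * 1 ≤ Fintype.card F ^ 2 * (Fintype.card F ^ 2 + 1) * (Fintype.card F - 1) :=
        Nat.mul_le_mul (Nat.mul_le_mul (by nlinarith) (by omega)) (by omega)
      omega
    · exact hM.1 h
  · exact not_prime_index hm hF (index_of_odd_coatom' hm hF hM hodd ▸ hp)

theorem exists_odd_coatom (hm : 1 ≤ m) (hF : Fintype.card F = 2 ^ (2 * m + 1)) :
    ∃ M : Subgroup ↥(Cfsg.Lie.Sz F (2 ^ (m + 1))), IsCoatom M ∧ Odd M.index := by
  haveI : Fact (Nat.Prime 2) := ⟨Nat.prime_two⟩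
  obtain ⟨S⟩ : Nonempty (Sylow 2 ↥(Cfsg.Lie.Sz F (2 ^ (m + 1)))) := inferInstance
  have hne : (S : Subgroup ↥(Cfsg.Lie.Sz F (2 ^ (m + 1)))) ≠ ⊤ := by
    intro h
    obtain ⟨j, hj⟩ := IsPGroup.iff_card.1 S.isPGroup'
    rw [h, Subgroup.card_top, card_lieSz hm hF, mul_assoc] at hj
    have hdvd : (Fintype.card F ^ 2 + 1) * (Fintype.card F - 1) ∣ 2 ^ j := hj ▸ dvd_mul_left _ _
    have hc : Nat.Coprime ((Fintype.card F ^ 2 + 1) * (Fintype.card F - 1)) (2 ^ j) :=
      Nat.Coprime.pow_right _ (Nat.Coprime.symm ((Nat.prime_two.coprime_iff_not_dvd).2 (odd_cofactor hm hF)))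
    have h1 := hc.eq_one_of_dvd hdvd
    have hq : 2 ≤ Fintype.card F := Fintype.one_lt_card
    have : (4 + 1) * 1 ≤ (Fintype.card F ^ 2 + 1) * (Fintype.card F - 1) :=
      Nat.mul_le_mul (by nlinarith) (by omega)
    omega
  obtain ⟨M, hM, hle⟩ := exists_coatom_ge hne
  refine ⟨M, hM, Nat.not_even_iff_odd.1 fun he => S.not_dvd_index ?_⟩
  exact (even_iff_two_dvd.1 he).trans (Subgroup.index_dvd_of_le hle)

theorem maxOrders_not_pgroup (hm : 1 ≤ m) (hF : Fintype.card F = 2 ^ (2 * m + 1)) {G : Type u} [Group G]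
    [Finite G] (h : maxOrders G = maxOrders ↥(Cfsg.Lie.Sz F (2 ^ (m + 1)))) :
    ∀ p : ℕ, p.Prime → ¬ IsPGroup p G := by
  intro p hp hG
  haveI := Fact.mk hp
  obtain ⟨M, hM, hodd⟩ := exists_odd_coatom hm hF
  have hidx := index_of_odd_coatom' hm hF hM hodd
  have hcard := M.card_mul_index
  rw [hidx, card_lieSz hm hF, mul_right_comm _ (Fintype.card F ^ 2 + 1)] at hcard
  have hk : Nat.card M = Fintype.card F ^ 2 * (Fintype.card F - 1) :=
    Nat.eq_of_mul_eq_mul_right (Nat.succ_pos _) hcard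
  have hmem : Nat.card M ∈ maxOrders G := h ▸ ⟨M, hM, rfl⟩
  obtain ⟨M', -, hM'⟩ := hmem
  obtain ⟨j, hj⟩ := IsPGroup.iff_card.1 (hG.to_subgroup M')
  rw [← hM', hk] at hj
  have h2 : 2 ∣ p ^ j := hj ▸ dvd_mul_of_dvd_left (dvd_pow (hF ▸ dvd_pow_self 2 (by omega)) two_ne_zero) _
  have hp2 : p = 2 := ((Nat.prime_dvd_prime_iff_eq Nat.prime_two hp).1 (Nat.prime_two.dvd_of_dvd_pow h2)).symm
  subst hp2
  have h8 : 8 ≤ Fintype.card F := by
    rw [hF]; exact le_trans (by norm_num) (Nat.pow_le_pow_right (by norm_num) (show 3 ≤ 2 * m + 1 by omega))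
  have hd : Fintype.card F - 1 ∣ 2 ^ j := hj ▸ dvd_mul_left _ _
  obtain ⟨i, -, hi⟩ := (Nat.dvd_prime_pow Nat.prime_two).1 hd
  rcases Nat.eq_zero_or_pos i with rfl | hi0
  · omega
  · have : 2 ∣ Fintype.card F - 1 := hi ▸ dvd_pow_self 2 (by omega)
    have : 2 ∣ Fintype.card F := hF ▸ dvd_pow_self 2 (by omega)
    omega

theorem sz_not_pgroup (hm : 1 ≤ m) (hF : Fintype.card F = 2 ^ (2 * m + 1)) :
    ∀ p : ℕ, p.Prime → ¬ IsPGroup p ↥(Cfsg.Lie.Sz F (2 ^ (m + 1))) :=
  maxOrders_not_pgroup hm hF rfl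

theorem three_not_dvd (hm : 1 ≤ m) (hF : Fintype.card F = 2 ^ (2 * m + 1)) :
    ¬ 3 ∣ Nat.card ↥(Cfsg.Lie.Sz F (2 ^ (m + 1))) := by
  rw [card_lieSz hm hF, hF]
  intro h
  have h3 : 2 ^ (2 * m + 1) % 3 = 2 := by
    rw [pow_succ, pow_mul, Nat.mul_mod, Nat.pow_mod]; norm_num
  have hsq : (2 ^ (2 * m + 1)) ^ 2 % 3 = 1 := by rw [Nat.pow_mod, h3]
  generalize 2 ^ (2 * m + 1) = q at h h3 hsq
  rcases Nat.prime_three.dvd_mul.1 h with h | h
  · rcases Nat.prime_three.dvd_mul.1 h with h | h <;> omega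
  · omega

/-- Suzuki groups are determined by the orders of their maximal subgroups, given the classification of
the simple groups of order prime to three. -/
theorem iso_of_maxOrders {G : Type u} [Group G] [Finite G] (hm : 1 ≤ m) (hF : Fintype.card F = 2 ^ (2 * m + 1))
    [IsSimpleGroup ↥(Cfsg.Lie.Sz F (2 ^ (m + 1)))]
    (h336 : ∀ (K : Subgroup G) [K.Normal], IsSimpleGroup (G ⧸ K) → ¬ IsMulCommutative (G ⧸ K) →
      ¬ 3 ∣ Nat.card (G ⧸ K) → Cfsg.Lie.IsoSuzuki (G ⧸ K))
    (h : maxOrders G = maxOrders ↥(Cfsg.Lie.Sz F (2 ^ (m + 1)))) :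
    Nonempty (G ≃* ↥(Cfsg.Lie.Sz F (2 ^ (m + 1)))) := by
  have hcard : Nat.card G = Nat.card ↥(Cfsg.Lie.Sz F (2 ^ (m + 1))) :=
    Nat.dvd_antisymm (card_dvd_of_maxOrders h (maxOrders_not_pgroup hm hF h))
      (card_dvd_of_maxOrders h.symm (sz_not_pgroup hm hF))
  -- an index in `G` of a maximal subgroup is one in the Suzuki group
  have key : ∀ M : Subgroup G, IsCoatom M →
      ∃ M' : Subgroup ↥(Cfsg.Lie.Sz F (2 ^ (m + 1))), IsCoatom M' ∧ M'.index = M.index := by
    intro M hM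
    obtain ⟨M', hM', hc⟩ : Nat.card M ∈ maxOrders ↥(Cfsg.Lie.Sz F (2 ^ (m + 1))) := h ▸ ⟨M, hM, rfl⟩
    refine ⟨M', hM', Nat.eq_of_mul_eq_mul_left (Nat.card_pos (α := ↥M')) ?_⟩
    rw [M'.card_mul_index, ← hc, M.card_mul_index, hcard]
  haveI : Nontrivial G := by
    rw [← Finite.one_lt_card_iff_nontrivial, hcard, Finite.one_lt_card_iff_nontrivial]
    infer_instance
  have hperf : commutator G = ⊤ := by
    by_contra hne
    obtain ⟨M, hM, hle⟩ := exists_coatom_ge hne
    haveI : M.Normal := Subgroup.Normal.of_commutator_le (G := G) (H := M) hle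
    obtain ⟨M', hM', hidx⟩ := key M hM
    exact index_not_prime hm hF hM' (hidx ▸ index_prime_of_normal_coatom hM)
  obtain ⟨K, hKn, hsimp⟩ := exists_simple_quotient G
  haveI := hKn
  haveI := hsimp
  have hna : ¬ IsMulCommutative (G ⧸ K) := by
    intro hc
    have h1 : commutator G ≤ K := Subgroup.Normal.quotient_commutative_iff_commutator_le.1 hc
    rw [hperf, top_le_iff] at h1
    exact not_subsingleton (G ⧸ K) (QuotientGroup.subsingleton_iff.2 h1)
  have h3 : ¬ 3 ∣ Nat.card (G ⧸ K) := fun hd =>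
    three_not_dvd hm hF (hcard ▸ hd.trans (Subgroup.card_quotient_dvd_card K))
  obtain ⟨F', iF, iF', m', hm', hF', ⟨e⟩⟩ := h336 K hsimp hna h3
  obtain ⟨M1, hM1, hodd⟩ := exists_odd_coatom (F := F') hm' hF'
  have hidx1 := index_of_odd_coatom' hm' hF' hM1 hodd
  let N1 : Subgroup (G ⧸ K) := e.symm.mapSubgroup M1
  have hN1 : IsCoatom N1 := (e.symm.mapSubgroup.isCoatom_iff M1).2 hM1
  have hN1i : N1.index = Fintype.card F' ^ 2 + 1 := (Subgroup.index_map_equiv M1 e.symm).trans hidx1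
  have hsurj := QuotientGroup.mk'_surjective K
  have hM : IsCoatom (N1.comap (QuotientGroup.mk' K)) := Subgroup.isCoatom_comap_of_surjective hsurj hN1
  have hMi : (N1.comap (QuotientGroup.mk' K)).index = Fintype.card F' ^ 2 + 1 :=
    (Subgroup.index_comap_of_surjective _ hsurj).trans hN1i
  obtain ⟨M', hM', hidx⟩ := key _ hM
  have hq : Fintype.card F = Fintype.card F' := by
    have hodd' : Odd M'.index := by rw [hidx, hMi, ← hidx1]; exact hodd
    have he : Fintype.card F ^ 2 = Fintype.card F' ^ 2 := by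
      have := index_of_odd_coatom' hm hF hM' hodd'
      omega
    exact Nat.pow_left_injective two_ne_zero he
  have hmm : m = m' := by
    have := Nat.pow_right_injective (le_refl 2) (hF.symm.trans (hq.trans hF'))
    omega
  subst hmm
  have hcQ : Nat.card (G ⧸ K) = Nat.card G := by
    rw [Nat.card_congr e.toEquiv, hcard, card_lieSz hm hF, card_lieSz hm hF', hq]
  have hK : K = ⊥ := by
    have h1 := K.card_eq_card_quotient_mul_card_subgroup
    rw [hcQ] at h1
    exact Subgroup.eq_bot_of_card_eq K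
      (Nat.eq_of_mul_eq_mul_left Nat.card_pos (h1.symm.trans (mul_one _).symm))
  obtain ⟨σ⟩ : Nonempty (F' ≃+* F) := ⟨FiniteField.ringEquivOfCardEq hq.symm⟩
  obtain ⟨f⟩ := CfsgLib.CIT.sz_congr σ (2 ^ (m + 1))
  exact ⟨(((QuotientGroup.quotientMulEquivOfEq hK).trans QuotientGroup.quotientBot).symm.trans e).trans f⟩

end Twisted

end CfsgLib.SzMaxOrders
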